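import Groth.Agent.DevLib.Power
import Groth.Agent.S1688
import Groth.Agent.S5090
import Groth.Agent.ASp.BiratNormal
import Groth.Agent.DCohLib.StalkRestrictFree
import Groth.Prelude.Def_TorSh
import Groth.Agent.PullbackMod.SuppClosed

/-!
# The subsheaf of sections vanishing at finitely many maximal points

On a reduced locally Noetherian scheme with finitely many components this is the torsion submodule, and the
quotient by it is torsion free at every point with a domain as local ring.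
-/

set_option autoImplicit false
set_option backward.isDefEq.respectTransparency false
set_option linter.style.haveILetI false

universe u

open CategoryTheory CategoryTheory.Limits AlgebraicGeometry TopologicalSpace Opposite
open Groth.Agent.PullbackMod Groth.Agent.QCohLib Groth.Agent.DevLib

noncomputable section

namespace Groth.Agent.TorsQuotLib

variable {X : Scheme.{u}}

/-- A point without proper generalisations. -/
def IsMax (ξ : X) : Prop := ∀ y : X, y ⤳ ξ → y = ξ

theorem exists_max_specializes (y : X) : ∃ ξ : X, IsMax ξ ∧ ξ ⤳ y := by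
  obtain ⟨ξ, hξ, h⟩ := ASp.exists_genericPoints_specializes y
  exact ⟨ξ, fun z hz => ASp.eq_of_specializes_genericPoints hξ hz, h⟩

theorem finite_max [AlgebraicGeometry.IsNoetherian X] : Set.Finite {ξ : X | IsMax ξ} := by
  have h := (TopologicalSpace.NoetherianSpace.finite_irreducibleComponents (α := X))
  refine Set.Finite.of_finite_image (f := fun ξ : X => closure ({ξ} : Set X)) (h.subset ?_) ?_
  · rintro _ ⟨ξ, hξ, rfl⟩
    refine ⟨isIrreducible_singleton.closure, fun T hT hle => ?_⟩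
    obtain ⟨η, hη⟩ := QuasiSober.sober hT.closure isClosed_closure
    have hg : η ⤳ ξ := hη.specializes (subset_closure (hle (subset_closure rfl)))
    show T ⊆ closure ({ξ} : Set X)
    rw [← hξ η hg, hη.def]
    exact subset_closure
  · intro a _ b _ hab
    simp only at hab
    exact ((specializes_iff_mem_closure.2 (hab ▸ subset_closure rfl)).antisymm
      (specializes_iff_mem_closure.2 (hab.symm ▸ subset_closure rfl))).eq

/-- A germ seen at a generalisation. -/
def sp (M : X.Modules) {ξ y : X} (h : ξ ⤳ y) : M.presheaf.stalk y →+ M.presheaf.stalk ξ :=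
  (M.presheaf.stalkSpecializes h).hom

theorem sp_germ (M : X.Modules) {ξ y : X} (h : ξ ⤳ y) {U : X.Opens} (hy : y ∈ U) (m : Γ(M, U)) :
    sp M h (M.presheaf.germ U y hy m) = M.presheaf.germ U ξ (h.mem_open U.2 hy) m :=
  TopCat.Presheaf.germ_stalkSpecializes_apply M.presheaf (U := U) hy h m

theorem germ_smul_mod {M : X.Modules} {U : X.Opens} (x : X) (hx : x ∈ U) (r : Γ(X, U)) (m : Γ(M, U)) :
    M.presheaf.germ U x hx (r • m) = X.presheaf.germ U x hx r • M.presheaf.germ U x hx m :=
  PresheafOfModules.germ_smul (R := X.presheaf) M.val x U hx r m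

theorem sp_smul (M : X.Modules) {ξ y : X} (h : ξ ⤳ y) (r : X.presheaf.stalk y) (z : M.presheaf.stalk y) :
    sp M h (r • z) = (X.presheaf.stalkSpecializes h).hom r • sp M h z := by
  obtain ⟨U, hU, m, rfl⟩ := TopCat.Presheaf.exists_germ_eq M.presheaf z
  obtain ⟨U', hU', a, rfl⟩ := TopCat.Presheaf.exists_germ_eq X.presheaf r
  have hx : y ∈ U ⊓ U' := ⟨hU, hU'⟩
  rw [← TopCat.Presheaf.germ_res_apply M.presheaf (homOfLE (inf_le_left : U ⊓ U' ≤ U)) y hx m,
    ← TopCat.Presheaf.germ_res_apply X.presheaf (homOfLE (inf_le_right : U ⊓ U' ≤ U')) y hx a,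
    ← germ_smul_mod, sp_germ, sp_germ, germ_smul_mod]
  exact congrArg (· • _) (TopCat.Presheaf.germ_stalkSpecializes_apply X.presheaf (U := U ⊓ U') hx h _).symm

theorem sp_stalkLin {M N : X.Modules} (φ : M ⟶ N) {ξ y : X} (h : ξ ⤳ y) (z : M.presheaf.stalk y) :
    sp N h (stalkLin φ y z) = stalkLin φ ξ (sp M h z) := by
  obtain ⟨U, hU, m, rfl⟩ := TopCat.Presheaf.exists_germ_eq M.presheaf z
  rw [stalkLin_germ, sp_germ, sp_germ, stalkLin_germ]

theorem isField_stalk_of_max [IsReduced X] [IsLocallyNoetherian X] {ξ : X} (hξ : IsMax ξ) :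
    IsField (X.presheaf.stalk ξ) := by
  refine AlgebraicGeometry.isField_stalk_of_closure_mem_irreducibleComponents X ξ ⟨isIrreducible_singleton.closure, fun T hT hle => ?_⟩
  obtain ⟨η, hη⟩ := QuasiSober.sober hT.closure isClosed_closure
  have hg : η ⤳ ξ := hη.specializes (subset_closure (hle (subset_closure rfl)))
  rw [← hξ η hg, hη.def]
  exact subset_closure

theorem absorbs_bot_max [IsReduced X] [IsLocallyNoetherian X] {ξ : X} (hξ : IsMax ξ) (M : X.Modules) :
    Absorbs (⊥ : Submodule (X.presheaf.stalk ξ) (M.presheaf.stalk ξ)) := fun a ha z => ⟨1, by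
  have h0 : a = 0 := by
    by_contra h
    obtain ⟨b, hb⟩ := (isField_stalk_of_max hξ).mul_inv_cancel h
    exact (IsLocalRing.mem_maximalIdeal _).1 ha (IsUnit.of_mul_eq_one b hb)
  rw [pow_one, h0, zero_smul]
  exact zero_mem _⟩

/-- The range of `subAt ⊥` on stalks. -/
theorem mem_range_subAt_bot (M : X.Modules) (ξ y : X) (z : M.presheaf.stalk y) :
    z ∈ LinearMap.range (stalkLin (subAtι (⊥ : Submodule (X.presheaf.stalk ξ) (M.presheaf.stalk ξ))) y) ↔
      ∀ h : ξ ⤳ y, sp M h z = 0 := by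
  constructor
  · rintro ⟨w, rfl⟩ h
    obtain ⟨U, hy, t, rfl⟩ := TopCat.Presheaf.exists_germ_eq
      (subAt (⊥ : Submodule (X.presheaf.stalk ξ) (M.presheaf.stalk ξ))).presheaf w
    rw [stalkLin_germ, sp_germ]
    exact (Submodule.mem_bot _).1 ((exists_app_subAtι _ U _).1 ⟨t, rfl⟩ _)
  · intro h
    by_cases hs : ξ ⤳ y
    · obtain ⟨U, hy, s, rfl⟩ := TopCat.Presheaf.exists_germ_eq M.presheaf z
      obtain ⟨t, rfl⟩ := (exists_app_subAtι (⊥ : Submodule (X.presheaf.stalk ξ) (M.presheaf.stalk ξ)) U s).2 fun hx =>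
        (Submodule.mem_bot _).2 ((sp_germ M hs hy s).symm.trans (h hs))
      exact ⟨_, stalkLin_germ _ y hy t⟩
    · exact surjective_stalk_subAtι _ hs z

theorem exists_sub_list [IsReduced X] [IsLocallyNoetherian X] {G : X.Modules} (hG : Coh.IsCoh G) :
    ∀ l : List X, (∀ ξ ∈ l, IsMax ξ) → ∃ (T : X.Modules) (i : T ⟶ G), Coh.IsCoh T ∧ Mono i ∧
      ∀ (y : X) (z : G.presheaf.stalk y), z ∈ LinearMap.range (stalkLin i y) ↔
        ∀ ξ ∈ l, ∀ h : ξ ⤳ y, sp G h z = 0 := by
  intro l
  induction l with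
  | nil =>
    intro _
    exact ⟨G, 𝟙 G, hG, inferInstance, fun y z => ⟨fun _ ξ hξ => absurd hξ List.not_mem_nil,
      fun _ => ⟨z, by rw [stalkLin_id]; rfl⟩⟩⟩
  | cons ξ l ih =>
    intro hl
    obtain ⟨T, i, hT, hi, hr⟩ := ih fun η hη => hl η (List.mem_cons_of_mem _ hη)
    let B : Submodule (X.presheaf.stalk ξ) (T.presheaf.stalk ξ) := ⊥
    haveI := hi
    refine ⟨subAt B, subAtι B ≫ i, isCoh_subAt hT (absorbs_bot_max (hl ξ List.mem_cons_self) T), inferInstance,
      fun y z => ⟨?_, fun h => ?_⟩⟩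
    · rintro ⟨w, rfl⟩ η hη hs
      rw [stalkLin_comp, LinearMap.comp_apply]
      rcases List.mem_cons.1 hη with rfl | hη'
      · rw [sp_stalkLin, (mem_range_subAt_bot T η y _).1 ⟨w, rfl⟩ hs, map_zero]
      · exact (hr y _).1 ⟨_, rfl⟩ η hη' hs
    · obtain ⟨w, rfl⟩ := (hr y z).2 fun η hη hs => h η (List.mem_cons_of_mem _ hη) hs
      obtain ⟨v, rfl⟩ := (mem_range_subAt_bot T ξ y w).2 fun hs => by
        apply (mono_iff_stalk i).1 inferInstance ξ
        rw [← sp_stalkLin, map_zero]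
        exact h ξ List.mem_cons_self hs
      exact ⟨v, by rw [stalkLin_comp]; rfl⟩

/-- The torsion submodule. -/
theorem exists_torsion [IsReduced X] [AlgebraicGeometry.IsNoetherian X] {G : X.Modules} (hG : Coh.IsCoh G) :
    ∃ (T : X.Modules) (i : T ⟶ G), Coh.IsCoh T ∧ Mono i ∧
      (∀ (y : X) (z : G.presheaf.stalk y), z ∈ LinearMap.range (stalkLin i y) ↔
        ∀ ξ, IsMax ξ → ∀ h : ξ ⤳ y, sp G h z = 0) ∧
      ∀ ξ, IsMax ξ → ξ ∉ CohB1.support T := by
  classical
  obtain ⟨T, i, hT, hi, hr⟩ := exists_sub_list hG (finite_max (X := X)).toFinset.toList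
    fun ξ hξ => (finite_max (X := X)).mem_toFinset.1 (Finset.mem_toList.1 hξ)
  have hmem : ∀ ξ, ξ ∈ (finite_max (X := X)).toFinset.toList ↔ IsMax ξ := fun ξ =>
    Finset.mem_toList.trans (finite_max (X := X)).mem_toFinset
  refine ⟨T, i, hT, hi, fun y z => (hr y z).trans
    ⟨fun h ξ hξ => h ξ ((hmem ξ).2 hξ), fun h ξ hξ => h ξ ((hmem ξ).1 hξ)⟩, fun ξ hξ hsupp => hsupp ?_⟩
  refine ⟨fun a b => (mono_iff_stalk i).1 hi ξ ?_⟩
  have key : ∀ a, stalkLin i ξ a = 0 := fun a => by
    have h := (hr ξ _).1 ⟨a, rfl⟩ ξ ((hmem ξ).2 hξ) specializes_rfl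
    obtain ⟨U, hU, m, rfl⟩ := TopCat.Presheaf.exists_germ_eq T.presheaf a
    rw [stalkLin_germ] at h ⊢
    rwa [sp_germ] at h
  rw [key a, key b]

/-- Specialisation to a maximal point is injective on a local ring which is a domain. -/
theorem sp_ring_injective {ξ y : X} (h : ξ ⤳ y) [IsDomain (X.presheaf.stalk y)] :
    Function.Injective (X.presheaf.stalkSpecializes h).hom := by
  letI := (X.presheaf.stalkSpecializes h).hom.toAlgebra
  haveI : IsLocalization.AtPrime (X.presheaf.stalk ξ)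
      ((IsLocalRing.maximalIdeal (X.presheaf.stalk ξ)).comap (X.presheaf.stalkSpecializes h).hom) :=
    S5090.isLocalization_stalkSpecializes h
  exact IsLocalization.injective (X.presheaf.stalk ξ)
    (M := ((IsLocalRing.maximalIdeal (X.presheaf.stalk ξ)).comap (X.presheaf.stalkSpecializes h).hom).primeCompl)
    (fun a ha => mem_nonZeroDivisors_of_ne_zero fun h0 => ha (h0 ▸ zero_mem _))

/-- An element killed at a generalisation is killed by an element surviving there. -/
theorem exists_kill (G : X.Modules) [Coh.IsQCoh G] {ξ y : X} (h : ξ ⤳ y) (z : G.presheaf.stalk y)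
    (hz : sp G h z = 0) : ∃ r : X.presheaf.stalk y, (X.presheaf.stalkSpecializes h).hom r ≠ 0 ∧ r • z = 0 := by
  obtain ⟨U, hyU, s, rfl⟩ := TopCat.Presheaf.exists_germ_eq G.presheaf z
  rw [sp_germ] at hz
  obtain ⟨W₁, hξ₁, i₁, i₂, he⟩ := TopCat.Presheaf.germ_eq G.presheaf ξ (h.mem_open U.2 hyU) (h.mem_open U.2 hyU) s 0
    (hz.trans (map_zero _).symm)
  obtain ⟨_, ⟨W : X.Opens, (hW : IsAffineOpen W), rfl⟩, hyW, hWU⟩ :=
    X.isBasis_affineOpens.exists_subset_of_mem_open hyU U.2
  have hξW : ξ ∈ W := h.mem_open W.2 hyW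
  obtain ⟨f, hfle, hξf⟩ := hW.exists_basicOpen_le (V := W₁) ⟨ξ, hξ₁⟩ hξW
  let m : Γ(G, W) := G.presheaf.map (homOfLE (hWU : W ≤ U)).op s
  obtain ⟨n, hn⟩ := (locAt G hW).kill f m (by
    show G.presheaf.map (homOfLE (X.basicOpen_le f)).op m = 0
    have e : G.presheaf.map (homOfLE hfle).op (G.presheaf.map i₁.op s) = 0 := by
      rw [he, map_zero, map_zero]
    refine Eq.trans ?_ e
    show G.presheaf.map _ (G.presheaf.map _ s) = _
    rw [← ConcreteCategory.comp_apply, ← ConcreteCategory.comp_apply, ← G.presheaf.map_comp, ← G.presheaf.map_comp]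
    rfl)
  rw [sc_le_rfl] at hn
  refine ⟨X.presheaf.germ W y hyW (f ^ n), ?_, ?_⟩
  · have e : (X.presheaf.stalkSpecializes h).hom (X.presheaf.germ W y hyW (f ^ n)) =
        (X.presheaf.germ W ξ hξW f) ^ n :=
      (TopCat.Presheaf.germ_stalkSpecializes_apply X.presheaf hyW h _).trans (map_pow (X.presheaf.germ W ξ hξW).hom f n)
    rw [e]
    exact (IsUnit.pow n ((X.mem_basicOpen f ξ hξW).1 hξf)).ne_zero
  · rw [← G.presheaf.germ_res_apply (homOfLE (hWU : W ≤ U)) y hyW s]
    refine (PresheafOfModules.germ_smul (R := X.presheaf) G.val y W hyW (f ^ n) m).symm.trans ?_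
    exact (congrArg (G.presheaf.germ W y hyW) hn).trans (map_zero _)

/-- No torsion in a free stalk. -/
theorem eq_zero_of_sp [IsReduced X] [IsLocallyNoetherian X] (G : X.Modules) [Coh.IsQCoh G] {y : X}
    [IsDomain (X.presheaf.stalk y)] [Module.IsTorsionFree (X.presheaf.stalk y) (G.presheaf.stalk y)]
    (z : G.presheaf.stalk y) (h : ∀ ξ, IsMax ξ → ∀ hs : ξ ⤳ y, sp G hs z = 0) : z = 0 := by
  obtain ⟨ξ, hξ, hs⟩ := exists_max_specializes y
  obtain ⟨r, hr, hrz⟩ := exists_kill G hs z (h ξ hξ hs)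
  refine (smul_eq_zero.1 hrz).resolve_left fun h0 => hr ?_
  rw [h0, map_zero]

/-- A stalk without torsion sections is torsion free where the local ring is a domain. -/
theorem isTorsionFree_stalk [IsReduced X] [IsLocallyNoetherian X] (G : X.Modules) {y : X}
    [IsDomain (X.presheaf.stalk y)]
    (h : ∀ z : G.presheaf.stalk y, (∀ ξ, IsMax ξ → ∀ hs : ξ ⤳ y, sp G hs z = 0) → z = 0) :
    Module.IsTorsionFree (X.presheaf.stalk y) (G.presheaf.stalk y) := by
  refine .of_smul_eq_zero fun r z hrz => or_iff_not_imp_left.2 fun hr => h z fun ξ hξ hs => ?_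
  have e := congrArg (sp G hs) hrz
  rw [sp_smul, map_zero] at e
  letI := (isField_stalk_of_max hξ).toField
  refine (smul_eq_zero.1 e).resolve_left fun h0 => hr (sp_ring_injective hs ?_)
  rw [h0, map_zero]

/-- The torsion free quotient on a reduced scheme whose local rings are principal ideal domains. -/
theorem exists_locFree_quot [IsReduced X] [AlgebraicGeometry.IsNoetherian X]
    (hdom : ∀ y : X, IsDomain (X.presheaf.stalk y)) (hpir : ∀ y : X, IsPrincipalIdealRing (X.presheaf.stalk y))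
    {G : X.Modules} (hG : Coh.IsCoh G) :
    ∃ (F : X.Modules) (p : G ⟶ F), Epi p ∧ Coh.IsCoh F ∧ FlatMod.IsFinLocFree F ∧
      (∀ y, Module.Free (X.presheaf.stalk y) (G.presheaf.stalk y) → Function.Injective (stalkLin p y)) ∧
      ∃ Z : Set X, IsClosed Z ∧ (∀ ξ, IsMax ξ → ξ ∉ Z) ∧ ∀ y ∉ Z, Function.Injective (stalkLin p y) := by
  obtain ⟨T, i, hT, hi, hr, hns⟩ := exists_torsion hG
  haveI := hT.1
  haveI := hi
  haveI := hG.1
  have hQ := (QCohLib.isCoh_kernel_cokernel i hT hG).2
  have hex : ∀ y, Function.Exact (stalkLin i y) (stalkLin (cokernel.π i) y) := fun y =>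
    DCohLib.exact_stalkLin (ShortComplex.mk i (cokernel.π i) (cokernel.condition i)) (ShortComplex.exact_cokernel i) y
  refine ⟨cokernel i, cokernel.π i, inferInstance, hQ, S1688.isFinLocFree_of_free hQ fun y => ?_, fun y hy => ?_,
    CohB1.support T, PullbackMod.isClosed_support_of_isFT hT.2, hns, fun y hy => ?_⟩
  · haveI := hdom y
    haveI := hpir y
    haveI := hQ.1
    haveI := finite_stalk_of_isFT hQ.2 y
    haveI : Module.IsTorsionFree (X.presheaf.stalk y) ((cokernel i).presheaf.stalk y) :=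
      isTorsionFree_stalk (cokernel i) fun z hz => by
        obtain ⟨w, rfl⟩ := (epi_iff_stalk (cokernel.π i)).1 inferInstance y z
        obtain ⟨v, rfl⟩ := (hr y w).2 fun ξ hξ hs => by
          have e : stalkLin (cokernel.π i) ξ (sp G hs w) = 0 := (sp_stalkLin _ hs w).symm.trans (hz ξ hξ hs)
          obtain ⟨c, hc⟩ := (hex ξ _).1 e
          have h0 := (hr ξ _).1 ⟨c, rfl⟩ ξ hξ specializes_rfl
          rw [hc] at h0
          obtain ⟨U, hU, m, hm⟩ := TopCat.Presheaf.exists_germ_eq G.presheaf (sp G hs w)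
          rw [← hm] at h0 ⊢
          rwa [sp_germ] at h0
        exact (hex y _).2 ⟨v, rfl⟩
    exact Module.free_of_finite_type_torsion_free'
  · haveI := hdom y
    haveI := hy
    refine (injective_iff_map_eq_zero _).2 fun z hz => ?_
    obtain ⟨v, rfl⟩ := (hex y z).1 hz
    exact eq_zero_of_sp G _ ((hr y _).1 ⟨v, rfl⟩)
  · haveI : Subsingleton (T.presheaf.stalk y) := of_not_not hy
    refine (injective_iff_map_eq_zero _).2 fun z hz => ?_
    obtain ⟨v, rfl⟩ := (hex y z).1 hz
    rw [Subsingleton.elim v 0, map_zero]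

end Groth.Agent.TorsQuotLib
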